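import Groth.Agent.Lib.Euler.Scalar
import Groth.Agent.Lib.Cohom.LinearLES
import Groth.Agent.Lib.QCoh.Qcqs
import Groth.Agent.Lib.QCoh.Abelian
import Groth.Agent.Lib.QCoh.Extension
import Groth.Agent.Lib.OX.AffineReflect
import Mathlib.RingTheory.Ideal.AssociatedPrime.Finiteness
import Mathlib.LinearAlgebra.Matrix.Charpoly.LinearMap

/-!
# An acyclic module with finite sections on a quasi-affine scheme has no boundary
-/

set_option autoImplicit false
set_option linter.style.haveILetI false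
set_option backward.isDefEq.respectTransparency.types false

universe u

open CategoryTheory CategoryTheory.Limits AlgebraicGeometry Opposite TopologicalSpace

noncomputable section

namespace GrothLib.QFiniteAcyclic

open GrothLib.Euler (smulMod smulMod_app)

variable {V : Scheme.{u}}

theorem smulMod_app_top (K : V.Modules) (a : Γ(V, ⊤)) (m : Γ(K, ⊤)) :
    (smulMod K (a : Coh.Γtop V)).app ⊤ m = a • m := by
  rw [smulMod_app]
  congr 1
  exact (congrArg (fun φ ↦ (CommRingCat.Hom.hom φ) a) (V.presheaf.map_id (op ⊤)) : _)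

theorem res_smul (K : V.Modules) {W W' : V.Opens} (h : W' ≤ W) (a : Γ(V, W)) (m : Γ(K, W)) :
    K.presheaf.map (homOfLE h).op (a • m) = V.presheaf.map (homOfLE h).op a • K.presheaf.map (homOfLE h).op m :=
  K.map_smul _ _ _

theorem eq_zero_of_smul (K : V.Modules) {g : Γ(V, ⊤)} (s : Γ(K, V.basicOpen g)) (n : ℕ)
    (h : (V.presheaf.map (homOfLE (V.basicOpen_le g)).op g) ^ n • s = 0) : s = 0 := by
  have hu : IsUnit (V.presheaf.map (homOfLE (V.basicOpen_le g)).op g) := V.toRingedSpace.isUnit_res_basicOpen g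
  exact (hu.pow n).smul_eq_zero.1 h

variable [CompactSpace V] [QuasiSeparatedSpace V] {B : Type u} [CommRing B] (φ : B →+* Γ(V, ⊤)) (I : Ideal B)

/-- Global sections killed by the ideal of the boundary vanish. -/
theorem eq_zero_of_killed (hI : ∀ x : V, ∃ f ∈ I, x ∈ V.basicOpen (φ f) ∧ IsAffineOpen (V.basicOpen (φ f)))
    (K : V.Modules) (m : Γ(K, ⊤)) (h : ∀ f ∈ I, φ f • m = 0) : m = 0 := by
  choose f hfI hxf _ using hI
  refine TopCat.Sheaf.eq_of_locally_eq' ⟨K.presheaf, K.isSheaf⟩ (fun x : V => V.basicOpen (φ (f x))) ⊤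
    (fun x => homOfLE le_top) (fun x _ => Opens.mem_iSup.2 ⟨x, hxf x⟩) _ _ fun x => ?_
  refine Eq.trans ?_ (map_zero _).symm
  refine eq_zero_of_smul K _ 1 ?_
  rw [pow_one, ← res_smul K (V.basicOpen_le (φ (f x))), h (f x) (hfI x), map_zero]

/-- The kernel statement: injectivity on global sections gives injectivity. -/
theorem mono_smulMod (hI : ∀ x : V, ∃ f ∈ I, x ∈ V.basicOpen (φ f) ∧ IsAffineOpen (V.basicOpen (φ f)))
    (K : V.Modules) [K.IsQuasicoherent] (a : Γ(V, ⊤)) (h : ∀ m : Γ(K, ⊤), a • m = 0 → m = 0) :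
    Mono (smulMod K (a : Coh.Γtop V)) := by
  let r : Coh.Γtop V := a
  haveI hq := QCoh.isQuasicoherent_kernel (smulMod K r)
  have htop : ∀ t : Γ(kernel (smulMod K r), ⊤), t = 0 := fun t => by
    have h1 : a • (kernel.ι (smulMod K r)).app ⊤ t = 0 := by
      rw [← smulMod_app_top]
      exact congrArg (fun ψ => Scheme.Modules.Hom.app ψ ⊤ t) (kernel.condition (smulMod K r))
    have hS : (ShortComplex.mk (kernel.ι (smulMod K r)) (cokernel.π (kernel.ι (smulMod K r))) (cokernel.condition _)).ShortExact :=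
      { exact := ShortComplex.exact_cokernel _ }
    exact QCoh.app_injective hS ⊤ ((h _ h1).trans (map_zero _).symm)
  choose f _ hxf haf using hI
  refine Preadditive.mono_of_kernel_zero (IsZero.eq_of_src ?_ _ _)
  refine OX.isZero_of_affine_cover hq (fun x : V => V.basicOpen (φ (f x))) haf (fun x => ⟨x, hxf x⟩) fun x s => ?_
  obtain ⟨n, t, ht⟩ := QCoh.smulLift_of_isCompact (kernel (smulMod K r)) (U := ⊤) isCompact_univ
    isQuasiSeparated_univ (φ (f x)) s
  rw [htop t, map_zero] at ht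
  exact eq_zero_of_smul _ s n ht.symm

/-- Sections of the cokernel of an injective multiplication. -/
theorem exists_step (K : V.Modules) [K.IsQuasicoherent] (a : Γ(V, ⊤)) [Mono (smulMod K (a : Coh.Γtop V))]
    (hvan : ∀ q : ℕ, 0 < q → Subsingleton (Coh.HH V K q)) :
    ∃ (K' : V.Modules) (π : K ⟶ K'), K'.IsQuasicoherent ∧ (∀ q : ℕ, 0 < q → Subsingleton (Coh.HH V K' q)) ∧
      Function.Surjective (π.app ⊤) ∧ ∀ m, π.app ⊤ m = 0 ↔ ∃ m', a • m' = m := by
  let μ := smulMod K (a : Coh.Γtop V)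
  let S : ShortComplex V.Modules := ShortComplex.mk μ (cokernel.π μ) (cokernel.condition μ)
  have hS : S.ShortExact := { exact := ShortComplex.exact_cokernel μ, mono_f := ‹_›, epi_g := inferInstanceAs (Epi (cokernel.π μ)) }
  letI : V.Over (Spec (CommRingCat.of Γ(V, ⊤))) := ⟨V.toSpecΓ⟩
  have hA := fun n => Cohom.exact₃ (A := Γ(V, ⊤)) hS n
  refine ⟨_, cokernel.π μ, QCoh.isQuasicoherent_cokernel μ, fun q hq => ?_, fun t => ?_, fun m => ⟨fun hm => ?_, ?_⟩⟩
  · haveI := hvan q hq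
    haveI := hvan (q + 1) q.succ_pos
    refine subsingleton_of_forall_eq 0 fun y => ?_
    obtain ⟨z, rfl⟩ := (hA q y).1 (Subsingleton.elim (α := Coh.HH V K (q + 1)) _ _)
    rw [show z = 0 from Subsingleton.elim (α := Coh.HH V K q) _ _, map_zero]
  · haveI := hvan 1 one_pos
    obtain ⟨z, hz⟩ := (hA 0 ((Sheaf.H.equiv₀ (Coh.toAb (cokernel μ)) (T := (⊤ : V.Opens)) isTerminalTop).symm t)).1
      (Subsingleton.elim (α := Coh.HH V K 1) _ _)
    refine ⟨Sheaf.H.equiv₀ (Coh.toAb K) (T := (⊤ : V.Opens)) isTerminalTop z, ?_⟩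
    refine (Sheaf.H.equiv₀_naturality (T := (⊤ : V.Opens)) isTerminalTop ((QCoh.toAbFun V).map (cokernel.π μ)) z).trans ?_
    exact (congrArg _ hz).trans (AddEquiv.apply_symm_apply _ t)
  · obtain ⟨m', hm'⟩ := QCoh.app_exact hS ⊤ m hm
    exact ⟨m', (smulMod_app_top K a m').symm.trans hm'⟩
  · rintro ⟨m', rfl⟩
    rw [← smulMod_app_top]
    exact QCoh.app_comp_zero (S := S) ⊤ m'

/-- No boundary. -/
theorem core [IsNoetherianRing B] (hI : ∀ x : V, ∃ f ∈ I, x ∈ V.basicOpen (φ f) ∧ IsAffineOpen (V.basicOpen (φ f)))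
    (p : Ideal B) [p.IsPrime] (hp : I ≤ p) (K : V.Modules) [K.IsQuasicoherent]
    (hfin : letI := Module.compHom Γ(K, ⊤) φ; Module.Finite B Γ(K, ⊤))
    (hvan : ∀ q : ℕ, 0 < q → Subsingleton (Coh.HH V K q))
    (hne : ∀ b ∉ p, ∃ m : Γ(K, ⊤), φ b • m ≠ 0) : False := by
  classical
  letI := Module.compHom Γ(K, ⊤) φ
  let good : Set (Submodule B Γ(K, ⊤)) := {N | ∃ (K' : V.Modules) (π : K ⟶ K'), K'.IsQuasicoherent ∧
    (∀ q : ℕ, 0 < q → Subsingleton (Coh.HH V K' q)) ∧ Function.Surjective (π.app ⊤) ∧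
    (∀ b ∉ p, ∃ m : Γ(K', ⊤), φ b • m ≠ 0) ∧ ∀ m, π.app ⊤ m = 0 ↔ m ∈ N}
  haveI : IsNoetherian B Γ(K, ⊤) := isNoetherian_of_isNoetherianRing_of_finite B _
  obtain ⟨N, ⟨K', π, hq, hv, hsur, hne', hker⟩, hmax⟩ := (wellFounded_gt (α := Submodule B Γ(K, ⊤))).has_min good
    ⟨⊥, K, 𝟙 K, inferInstance, hvan, fun m => ⟨m, rfl⟩, hne, fun m => Iff.rfl⟩
  letI := Module.compHom Γ(K', ⊤) φ
  have hlin : ∀ (b : B) (m : Γ(K, ⊤)), π.app ⊤ (b • m) = b • π.app ⊤ m := fun b m =>
    Scheme.Modules.Hom.app_smul π (U := ⊤) (φ b) m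
  let Pm : Γ(K, ⊤) →ₗ[B] Γ(K', ⊤) :=
    { toFun := π.app ⊤
      map_add' := map_add _
      map_smul' := hlin }
  haveI : Module.Finite B Γ(K', ⊤) := Module.Finite.of_surjective Pm hsur
  obtain ⟨a, haI, hreg⟩ : ∃ a ∈ I, ∀ m : Γ(K', ⊤), φ a • m = 0 → m = 0 := by
    by_contra hcon
    push Not at hcon
    have hsub : (I : Set B) ⊆ ⋃ q ∈ associatedPrimes B Γ(K', ⊤), (q : Set B) := fun a ha => by
      rw [biUnion_associatedPrimes_eq_zero_divisors]
      obtain ⟨m, hm, hm0⟩ := hcon a ha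
      exact ⟨m, hm0, hm⟩
    obtain ⟨q, hq', hle⟩ := (Ideal.subset_union_prime_finite (associatedPrimes.finite B Γ(K', ⊤)) ⊥ ⊥
      fun q hq _ _ => IsAssociatedPrime.isPrime hq).1 hsub
    obtain ⟨m, hm⟩ := ((isAssociatedPrime_iff_exists_injective_linearMap q _).1 hq').2
    haveI := (IsAssociatedPrime.isPrime hq')
    have h0 : m (Submodule.Quotient.mk 1) = 0 := eq_zero_of_killed φ I hI K' _ fun f hf => by
      show f • m (Submodule.Quotient.mk 1) = 0
      rw [← map_smul, ← Submodule.Quotient.mk_smul, smul_eq_mul, mul_one,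
        (Submodule.Quotient.mk_eq_zero q).2 (hle hf), map_zero]
    have h1 := hm (h0.trans (map_zero m).symm)
    rw [Submodule.Quotient.mk_eq_zero] at h1
    exact IsAssociatedPrime.isPrime hq' |>.ne_top ((Ideal.eq_top_iff_one q).2 h1)
  haveI := mono_smulMod φ I hI K' (φ a) hreg
  obtain ⟨K'', ρ, hq'', hv'', hsur'', hker''⟩ := exists_step K' (φ a) hv
  letI := Module.compHom Γ(K'', ⊤) φ
  have hlin' : ∀ (b : B) (m : Γ(K', ⊤)), ρ.app ⊤ (b • m) = b • ρ.app ⊤ m := fun b m =>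
    Scheme.Modules.Hom.app_smul ρ (U := ⊤) (φ b) m
  have hne'' : ∀ b ∉ p, ∃ m : Γ(K'', ⊤), φ b • m ≠ 0 := by
    intro b hb
    by_contra hcon
    push Not at hcon
    let g : Γ(K', ⊤) →ₗ[B] Γ(K', ⊤) := LinearMap.lsmul B _ b
    have hg : LinearMap.range g ≤ Ideal.span {a} • (⊤ : Submodule B Γ(K', ⊤)) := by
      rintro _ ⟨m, rfl⟩
      obtain ⟨m', hm'⟩ := (hker'' (b • m)).1 ((hlin' b m).trans (hcon _))
      rw [LinearMap.lsmul_apply, ← hm']
      exact Submodule.smul_mem_smul (Ideal.mem_span_singleton_self a) (show m' ∈ (⊤ : Submodule B _) from trivial)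
    obtain ⟨P, hP, -, hcoeff, hP0⟩ := LinearMap.exists_monic_and_coeff_mem_pow_and_aeval_eq_zero_of_range_le_smul B g (Ideal.span {a}) hg
    have hb' : P.eval b ∉ p := by
      intro hmem
      rw [Polynomial.eval_eq_sum_range, Finset.sum_range_succ] at hmem
      have hlow : ∑ i ∈ Finset.range P.natDegree, P.coeff i * b ^ i ∈ p := sum_mem fun i hi => by
        refine Ideal.mul_mem_right _ _ ?_
        have := hcoeff i
        exact (Ideal.span_singleton_le_iff_mem p).2 (hp haI)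
          (Ideal.pow_le_self (by have := Finset.mem_range.1 hi; omega) this)
      rw [Ideal.add_mem_iff_right p hlow, hP.coeff_natDegree, one_mul] at hmem
      exact hb (Ideal.IsPrime.mem_of_pow_mem inferInstance _ hmem)
    obtain ⟨m, hm⟩ := hne' _ hb'
    refine hm ?_
    have := LinearMap.congr_fun hP0 m
    rwa [Polynomial.aeval_endomorphism, LinearMap.zero_apply, Polynomial.sum_def, show ∑ i ∈ P.support, P.coeff i • (g ^ i) m = P.eval b • m from ?_] at this
    rw [Polynomial.eval_eq_sum, Polynomial.sum_def, Finset.sum_smul]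
    refine Finset.sum_congr rfl fun i hi => ?_
    clear hi
    rw [mul_smul]
    congr 1
    induction i with
    | zero => rw [pow_zero, pow_zero, one_smul]; rfl
    | succ i ih => rw [pow_succ', pow_succ', mul_smul, Module.End.mul_apply, ih]; rfl
  let Pm' : Γ(K', ⊤) →ₗ[B] Γ(K'', ⊤) := { toFun := ρ.app ⊤, map_add' := map_add _, map_smul' := hlin' }
  let N' := LinearMap.ker (Pm' ∘ₗ Pm)
  have hle : N ≤ N' := fun m hm => by
    show ρ.app ⊤ (π.app ⊤ m) = 0
    rw [(hker m).2 hm, map_zero]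
  refine hmax N' ⟨K'', π ≫ ρ, hq'', hv'', fun t => ?_, hne'', fun m => Iff.rfl⟩ (lt_of_le_of_ne hle fun he => ?_)
  · obtain ⟨s, rfl⟩ := hsur'' t
    obtain ⟨r, rfl⟩ := hsur s
    exact ⟨r, rfl⟩
  · obtain ⟨m₁, hm₁⟩ := hne' 1 (fun h => Ideal.IsPrime.ne_top ‹_› ((Ideal.eq_top_iff_one p).2 h))
    rw [map_one, one_smul] at hm₁
    obtain ⟨r, hr⟩ := hsur m₁
    have hin : a • r ∈ N' := by
      show ρ.app ⊤ (π.app ⊤ (a • r)) = 0
      rw [hlin, hr, hker'']
      exact ⟨m₁, rfl⟩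
    rw [← he, ← hker, hlin, hr] at hin
    exact hm₁ (hreg m₁ hin)

/-- Global sections see the support on affine basic opens. -/
theorem exists_smul_ne_zero (K : V.Modules) [K.IsQuasicoherent] (c a : Γ(V, ⊤)) {x : V}
    (hx : x ∈ V.basicOpen (c * a)) (hD : IsAffineOpen (V.basicOpen (c * a)))
    (hst : ¬ Subsingleton (K.presheaf.stalk x)) : ∃ m : Γ(K, ⊤), a • m ≠ 0 := by
  by_contra hcon
  push Not at hcon
  have hzero : ∀ s : Γ(K, V.basicOpen (c * a)), s = 0 := fun s => by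
    obtain ⟨n, t, ht⟩ := QCoh.smulLift_of_isCompact K (U := ⊤) isCompact_univ isQuasiSeparated_univ (c * a) s
    have hu : IsUnit (V.presheaf.map (homOfLE (V.basicOpen_le (c * a))).op (c * a)) :=
      V.toRingedSpace.isUnit_res_basicOpen _
    have h1 := congrArg (fun z => V.presheaf.map (homOfLE (V.basicOpen_le (c * a))).op a • z) ht
    simp only at h1
    rw [← res_smul K (V.basicOpen_le (c * a)), hcon t, map_zero] at h1
    have hu' := hu
    rw [map_mul] at hu'
    exact (hu.pow n).smul_eq_zero.1 ((isUnit_of_mul_isUnit_right hu').smul_eq_zero.1 h1.symm)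
  refine hst (subsingleton_of_forall_eq 0 fun ξ => ?_)
  obtain ⟨W, hxW, s, rfl⟩ := TopCat.Presheaf.exists_germ_eq (C := AddCommGrpCat.{u}) K.presheaf ξ
  obtain ⟨t, htW, hxt⟩ := hD.exists_basicOpen_le ⟨x, hxW⟩ hx
  obtain ⟨n, m, hm⟩ := Cohom.exists_pow_smul_eq_map hD K t (K.presheaf.map (homOfLE htW).op s)
  rw [hzero m, map_zero] at hm
  have hu : IsUnit ((V.presheaf.map (homOfLE (V.basicOpen_le t)).op t) ^ n) :=
    (RingedSpace.isUnit_res_basicOpen V.toRingedSpace t).pow n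
  have h0 := hu.smul_eq_zero.1 hm.symm
  rw [← TopCat.Presheaf.germ_res_apply K.presheaf (homOfLE htW) x hxt, h0, map_zero]

end GrothLib.QFiniteAcyclic
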